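import Groth.Agent.ShBCLib.Basic
/-!
Dimensions of cohomology groups under extension of the ground field.
-/

set_option autoImplicit false
set_option backward.isDefEq.respectTransparency false
set_option linter.style.haveILetI false

universe u

open CategoryTheory CategoryTheory.Limits AlgebraicGeometry

noncomputable section

namespace Groth.Agent.ShBCLib

theorem finrank_HH_iso {X : Scheme.{u}} {K : Type u} [Field K] [X.Over (Spec (CommRingCat.of K))] {M N : X.Modules}
    (e : M ≅ N) (i : ℕ) : Module.finrank K (Coh.HH X M i) = Module.finrank K (Coh.HH X N i) := by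
  have e' : Coh.HH X M i ≃ₗ[K] Coh.HH X N i :=
    LinearEquiv.restrictScalars K ((LinearEquiv.refl K _ : Coh.HH X M i ≃ₗ[K] Coh.HH X M i)) |>.trans
      { toLinearMap := CurveLib.hMap e.hom i
        invFun := CurveLib.hMap (k := K) e.inv i
        left_inv := fun x => by
          show Sheaf.H.map _ i (Sheaf.H.map _ i x) = x
          rw [← Sheaf.H.map_comp_apply, ← Functor.map_comp, e.hom_inv_id, CategoryTheory.Functor.map_id,
            Sheaf.H.map_id_apply]
        right_inv := fun x => by
          show Sheaf.H.map _ i (Sheaf.H.map _ i x) = x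
          rw [← Sheaf.H.map_comp_apply, ← Functor.map_comp, e.inv_hom_id, CategoryTheory.Functor.map_id,
            Sheaf.H.map_id_apply] }
  exact e'.finrank_eq

theorem finrank_HH_bc (k : Type u) [Field k] {X : Scheme.{u}} [X.Over (Spec (CommRingCat.of k))]
    [IsProper (X ↘ Spec (CommRingCat.of k))] (K : Type u) [Field K] [Algebra k K] (M : X.Modules) [Coh.IsQCoh M]
    (i : ℕ) : Module.finrank K (Coh.HH (Curv2.bc k X K) (bcPull k K M) i) = Module.finrank k (Coh.HH X M i) := by
  haveI := EulerIneqLib.isNoetherian_proper (X := X) k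
  let a : k ≃+* Γ(Spec (CommRingCat.of k), ⊤) :=
    (Scheme.ΓSpecIso (CommRingCat.of k)).symm.commRingCatIsoToRingEquiv
  let b : K ≃+* Γ(Spec (CommRingCat.of K), ⊤) :=
    (Scheme.ΓSpecIso (CommRingCat.of K)).symm.commRingCatIsoToRingEquiv
  obtain ⟨e⟩ := FlatBC.nonempty_affine (IsPullback.of_hasPullback (X ↘ Spec (CommRingCat.of k))
    (Spec.map (CommRingCat.ofHom (algebraMap k K)))) M a b
    (fun x => (congr($(Scheme.ΓSpecIso_inv_naturality (CommRingCat.ofHom (algebraMap k K))) x)).symm) i
  exact e.finrank_eq.symm.trans (Module.finrank_baseChange (R := K) (S := k))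

end Groth.Agent.ShBCLib
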