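import Groth.Agent.ShStabLib.Hom
import Groth.Agent.FlatBC.Scheme
import Groth.Agent.AmpleLib.Pullback
import Groth.Agent.PullbackMod.Hom
import Groth.Agent.PullbackMod.Props
import Groth.Prelude.Def_Curv2
/-!
Hilbert polynomials and stability under extension of the ground field.
-/

set_option autoImplicit false
set_option backward.isDefEq.respectTransparency false
set_option linter.style.haveILetI false

universe u

open CategoryTheory CategoryTheory.Limits AlgebraicGeometry Polynomial

noncomputable section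

namespace Groth.Agent.ShBCLib

variable (k : Type u) [Field k] {X : Scheme.{u}} [X.Over (Spec (CommRingCat.of k))]
  (K : Type u) [Field K] [Algebra k K]

/-- Pullback to the extended ground field. -/
abbrev bcPull (M : X.Modules) : (Curv2.bc k X K).Modules :=
  (Scheme.Modules.pullback (Curv2.bcFst k X K)).obj M

theorem flat_bcFst : Flat (Curv2.bcFst k X K) := by
  haveI : Flat (Spec.map (CommRingCat.ofHom (algebraMap k K))) := by
    rw [Flat.SpecMap_iff]
    exact RingHom.flat_algebraMap_iff.2 inferInstance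
  exact MorphismProperty.pullback_fst _ _ inferInstance

theorem surjective_bcFst : Surjective (Curv2.bcFst k X K) := by
  haveI : Surjective (Spec.map (CommRingCat.ofHom (algebraMap k K))) :=
    ⟨fun _ => ⟨⟨⊥, Ideal.isPrime_bot⟩, Subsingleton.elim (α := PrimeSpectrum k) _ _⟩⟩
  exact MorphismProperty.pullback_fst _ _ inferInstance

variable [IsProper (X ↘ Spec (CommRingCat.of k))]

instance isProper_bc : IsProper (Curv2.bc k X K ↘ Spec (CommRingCat.of K)) :=
  inferInstanceAs (IsProper (Limits.pullback.snd (X ↘ Spec (CommRingCat.of k))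
    (Spec.map (CommRingCat.ofHom (algebraMap k K)))))

theorem euler_bc (M : X.Modules) [Coh.IsQCoh M] :
    Curv2.euler K (Curv2.bc k X K) (bcPull k K M) = Curv2.euler k X M := by
  haveI := EulerIneqLib.isNoetherian_proper (X := X) k
  haveI : QuasiSeparatedSpace X := inferInstance
  let a : k ≃+* Γ(Spec (CommRingCat.of k), ⊤) :=
    (Scheme.ΓSpecIso (CommRingCat.of k)).symm.commRingCatIsoToRingEquiv
  let b : K ≃+* Γ(Spec (CommRingCat.of K), ⊤) :=
    (Scheme.ΓSpecIso (CommRingCat.of K)).symm.commRingCatIsoToRingEquiv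
  refine finsum_congr fun i => ?_
  obtain ⟨e⟩ := FlatBC.nonempty_affine (IsPullback.of_hasPullback (X ↘ Spec (CommRingCat.of k))
    (Spec.map (CommRingCat.ofHom (algebraMap k K)))) M a b
    (fun x => (congr($(Scheme.ΓSpecIso_inv_naturality (CommRingCat.ofHom (algebraMap k K))) x)).symm) i
  congr 2
  exact e.finrank_eq.symm.trans (Module.finrank_baseChange (R := K) (S := k))

theorem isHilbPoly_bc {L M : X.Modules} (hL : PicF.IsInvertible L) (hM : Coh.IsCoh M) {P : ℚ[X]}
    (h : ShStab.IsHilbPoly k X L M P) :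
    ShStab.IsHilbPoly K (Curv2.bc k X K) (bcPull k K L) (bcPull k K M) P := fun m => by
  haveI := EulerIneqLib.isNoetherian_proper (X := X) k
  rw [← h m]
  haveI : Coh.IsQCoh (ShStab.twist X L M m) := (HilbLib.isCoh_twist hL hM m).1
  rw [← euler_bc k K (ShStab.twist X L M m)]
  exact congrArg (fun z : ℤ => (z : ℚ)) (CurveLib.euler_iso (K := K)
    (AmpleLib.tIso (Iso.refl _) (AmpleLib.pullPow _ L m).symm ≪≫ (AmpleLib.pullTensor _ M _).symm))

theorem isSemistable_of_bc {L E : X.Modules} {d : ℕ} (hL : CohB1.IsAmple L) (hE : Coh.IsCoh E)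
    (hp : ShStab.IsPure X E d)
    (hK : ShStab.IsSemistable K (Curv2.bc k X K) (bcPull k K L) (bcPull k K E) d) :
    ShStab.IsSemistable k X L E d := by
  haveI := flat_bcFst k (X := X) K
  haveI := surjective_bcFst k (X := X) K
  let F' := Scheme.Modules.pullback (Curv2.bcFst k X K)
  haveI := PullbackMod.faithful_pullback (Curv2.bcFst k X K)
  refine ⟨hE, fun h0 => hK.2.1 (F'.map_isZero h0), hp, fun F ι _ hF hF0 hni pF pE pf pe => ?_⟩
  haveI := PullbackMod.mono_map_pullback (Curv2.bcFst k X K) ι
  refine hK.2.2.2 (F'.obj F) (F'.map ι) inferInstance (PullbackMod.isCoh_pullback _ F hF) ?_ ?_ pF pE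
    (isHilbPoly_bc k K hL.1 hF pf) (isHilbPoly_bc k K hL.1 hE pe)
  · intro hz
    exact hF0 ((IsZero.iff_id_eq_zero F).2 (F'.map_injective (hz.eq_of_src _ _)))
  · intro _
    haveI : Epi ι := F'.epi_of_epi_map inferInstance
    exact hni (isIso_of_mono_of_epi ι)

end Groth.Agent.ShBCLib
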